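import Cfsg.Agent.H477.HC.RowSp
import Cfsg.Agent.H759.Dl.Small
import Cfsg.Agent.H677.DG.SpRank
import Cfsg.Agent.H477.HC.Rk3Chars_m3
import Cfsg.Agent.H477.HC.Levi
import Cfsg.Agent.Characters.Linear
import Cfsg.Agent.S0244
import Cfsg.Agent.FastGrp
import Cfsg.Agent.Prune
set_option linter.all false

section
prune_inst 0x7fffadffbbe963ffffff7e3ff6d8effc13c78fffe6dff94b7fe0ebbf2bdf33002fc5fb850de050ff0ed7e23410b87853fb7eeeffe26bdc7ffffd5ff45ffbee5ff7ffbd0811d290241f346fff93f0778e6f3fffffffffffffffffffffffffffbeffbffbfeffff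

-- part: H362/Dl/SpCount
section
prune_inst 0x420040169c0000000040090210022810100000200400800e1040d0208496002804280000a800412000c90801800000000100090400000000a003000000200000000160040d10a00880006000000010000000000000000000000000000000004004010000
set_option linter.all false
open scoped Cfsg.Agent.FastGrp

/-!
# The degrees `dg (spF K m) k` (helper362)

`card_tup` : the number of totally singular `k`-frames; `card_Om_sp` : the number of totally singular `k`-spaces of the
symplectic space of dimension `2m`; `dg_sp` : `(q^k - 1) dg = ∏_{i<k} (q^(2(m-i)) - 1)`; `dg_lt` : strict monotonicity.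
-/

set_option autoImplicit false
set_option linter.unusedSectionVars false

open Cfsg

namespace Cfsg.Agent.H362.Dl

open Cfsg.Agent.H477.HC Module Cfsg.Agent.H53.HC

universe u v

section general

variable {K : Type u} [Field K] {V : Type v} [AddCommGroup V] [Module K V] (F : CForm K V)

/-- totally singular frames -/
def Tup (k : ℕ) : Type v :=
  {s : Fin k → V // LinearIndependent K s ∧ (∀ i, F.Q (s i) = 0) ∧ ∀ i j, F.B (s i) (s j) = 0}

variable [Finite K] [Finite V]

instance (k : ℕ) : Finite (Tup F k) := by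
  unfold Tup
  infer_instance

/-- the frames of a space `W` -/
theorem card_frames (W : Submodule K V) {k : ℕ} (hW : finrank K W = k) :
    Nat.card {s : Fin k → W // LinearIndependent K s} = ∏ i ∈ Finset.range k, (Nat.card K ^ k - Nat.card K ^ i) := by
  classical
  let _ := Fintype.ofFinite K
  rw [card_linearIndependent (by rw [hW]), hW, Finset.prod_range, Nat.card_eq_fintype_card (α := K)]

theorem card_tup (k : ℕ) : Nat.card (Tup F k) = Nat.card (F.Om k) * ∏ i ∈ Finset.range k, (Nat.card K ^ k - Nat.card K ^ i) := by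
  classical
  have := finite_Om F k
  let _ := Fintype.ofFinite (F.Om k)
  let f : Tup F k → F.Om k := fun s => ⟨Submodule.span K (Set.range s.1), F.TS_span s.2.2.2 s.2.2.1, by
    rw [finrank_span_eq_card s.2.1, Fintype.card_fin]⟩
  have h1 : ∀ W : F.Om k, Nat.card {t : Tup F k // f t = W} = ∏ i ∈ Finset.range k, (Nat.card K ^ k - Nat.card K ^ i) := by
    intro W
    rw [← card_frames W.1 W.2.2]
    refine Nat.card_congr
      { toFun := fun t => ⟨fun i => ⟨t.1.1 i, ?_⟩, ?_⟩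
        invFun := fun s => ⟨⟨fun i => (s.1 i : V), ?_, fun i => W.2.1.1 _ (s.1 i).2, fun i j => W.2.1.2 _ (s.1 i).2 _ (s.1 j).2⟩, ?_⟩
        left_inv := fun t => rfl
        right_inv := fun s => rfl }
    · have : Submodule.span K (Set.range t.1.1) = W.1 := congrArg Subtype.val t.2
      rw [← this]
      exact Submodule.subset_span ⟨i, rfl⟩
    · refine LinearIndependent.of_comp W.1.subtype ?_
      exact t.1.2.1
    · exact s.2.map' W.1.subtype (Submodule.ker_subtype _)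
    · apply Subtype.ext
      apply Submodule.eq_of_le_of_finrank_eq
      · rw [Submodule.span_le]
        rintro _ ⟨i, rfl⟩
        exact (s.1 i).2
      · have h2 : LinearIndependent K (fun i => (s.1 i : V)) := s.2.map' W.1.subtype (Submodule.ker_subtype _)
        rw [finrank_span_eq_card h2, Fintype.card_fin]
        exact W.2.2.symm
  rw [Nat.card_congr (Equiv.sigmaFiberEquiv f).symm, Nat.card_sigma, Finset.sum_congr rfl fun W _ => h1 W,
    Finset.sum_const, Finset.card_univ, smul_eq_mul, Nat.card_eq_fintype_card (α := F.Om k)]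

/-- the dimension of the orthogonal complement -/
theorem finrank_perp_span [FiniteDimensional K V] {k : ℕ} {s : Fin k → V} (hs : LinearIndependent K s) :
    finrank K (F.perp (Submodule.span K (Set.range s))) + k = finrank K V := by
  classical
  let L : V →ₗ[K] (Fin k → K) := LinearMap.pi fun i => F.lf (s i)
  have hL : LinearMap.range L = ⊤ := by
    by_contra hne
    obtain ⟨y, hy⟩ : ∃ y, y ∉ LinearMap.range L := by
      by_contra h
      push Not at h
      exact hne (eq_top_iff.2 fun y _ => h y)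
    obtain ⟨g, hg, hg'⟩ := Submodule.exists_dual_map_eq_bot_of_notMem hy inferInstance
    apply hg
    have hc : ∀ v, g (L v) = 0 := by
      intro v
      have : g (L v) ∈ (LinearMap.range L).map g := ⟨_, ⟨v, rfl⟩, rfl⟩
      rw [hg'] at this
      exact (Submodule.mem_bot K).1 this
    have hgsum : ∀ x : Fin k → K, g x = ∑ i, x i * g (Pi.single i 1) := by
      intro x
      conv_lhs => rw [← Finset.univ_sum_single x]
      rw [map_sum]
      refine Finset.sum_congr rfl fun i _ => ?_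
      have : (Pi.single i (x i) : Fin k → K) = x i • Pi.single i 1 := by
        rw [← Pi.single_smul, smul_eq_mul, mul_one]
      rw [this, map_smul, smul_eq_mul]
    have h0 : ∑ i, F.σ (g (Pi.single i 1)) • s i = 0 := by
      refine F.nondeg _ fun v => F.B_eq_zero ?_
      rw [CForm.B_sum_right]
      have h1 := hc v
      rw [hgsum] at h1
      rw [← h1]
      refine Finset.sum_congr rfl fun i _ => ?_
      rw [F.σσ, mul_comm]
      rfl
    rw [Fintype.linearIndependent_iff] at hs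
    have h2 : ∀ i, g (Pi.single i 1) = 0 := fun i => by
      have := hs _ h0 i
      rwa [map_eq_zero] at this
    rw [hgsum]
    exact Finset.sum_eq_zero fun i _ => by rw [h2, mul_zero]
  have hker : F.perp (Submodule.span K (Set.range s)) = LinearMap.ker L := by
    ext v
    rw [LinearMap.mem_ker]
    constructor
    · intro h
      funext i
      exact h _ (Submodule.subset_span ⟨i, rfl⟩)
    · intro h w hw
      obtain ⟨g, rfl⟩ := (Submodule.mem_span_range_iff_exists_fun K).1 hw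
      rw [CForm.B_sum_right]
      exact Finset.sum_eq_zero fun i _ => by
        have : F.B v (s i) = 0 := congrFun h i
        rw [this, mul_zero]
  have h3 := LinearMap.finrank_range_add_finrank_ker L
  rw [hL, finrank_top, finrank_fin_fun] at h3
  rw [hker]
  omega

/-- the frames with a given tail -/
theorem card_tup_succ_of [FiniteDimensional K V] (k N : ℕ)
    (h : ∀ s : Tup F k, Nat.card {w : V // F.Q w = 0 ∧ w ∈ F.perp (Submodule.span K (Set.range s.1)) ∧
      w ∉ Submodule.span K (Set.range s.1)} = N) : Nat.card (Tup F (k + 1)) = Nat.card (Tup F k) * N := by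
  classical
  let _ := Fintype.ofFinite (Tup F k)
  let f : Tup F (k + 1) → Tup F k := fun t => ⟨Fin.tail t.1, by
    have h1 := t.2.1
    rw [← Fin.cons_self_tail t.1, linearIndependent_finCons] at h1
    exact h1.1, fun i => t.2.2.1 _, fun i j => t.2.2.2 _ _⟩
  have h1 : ∀ s : Tup F k, Nat.card {t : Tup F (k + 1) // f t = s} = N := by
    intro s
    rw [← h s]
    refine Nat.card_congr
      { toFun := fun t => ⟨t.1.1 0, t.1.2.2.1 0, ?_, ?_⟩
        invFun := fun w => ⟨⟨Fin.cons w.1 s.1, ?_, ?_, ?_⟩, ?_⟩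
        left_inv := fun t => ?_
        right_inv := fun w => rfl }
    · have h2 : Fin.tail t.1.1 = s.1 := congrArg Subtype.val t.2
      intro w hw
      obtain ⟨g, rfl⟩ := (Submodule.mem_span_range_iff_exists_fun K).1 hw
      rw [CForm.B_sum_right]
      refine Finset.sum_eq_zero fun i _ => ?_
      rw [← h2]
      have : F.B (t.1.1 0) (Fin.tail t.1.1 i) = 0 := t.1.2.2.2 _ _
      rw [this, mul_zero]
    · have h2 : Fin.tail t.1.1 = s.1 := congrArg Subtype.val t.2
      have h3 := t.1.2.1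
      rw [← Fin.cons_self_tail t.1.1, linearIndependent_finCons, h2] at h3
      exact h3.2
    · rw [linearIndependent_finCons]
      exact ⟨s.2.1, w.2.2.2⟩
    · intro i
      refine Fin.cases ?_ (fun i => ?_) i
      · exact w.2.1
      · exact s.2.2.1 i
    · have h4 : ∀ i, F.B w.1 (s.1 i) = 0 := fun i => w.2.2.1 _ (Submodule.subset_span ⟨i, rfl⟩)
      intro i j
      refine Fin.cases ?_ (fun i => ?_) i
      · refine Fin.cases ?_ (fun j => ?_) j
        · exact F.alt _ w.2.1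
        · exact h4 j
      · refine Fin.cases ?_ (fun j => ?_) j
        · exact F.B_eq_zero (h4 i)
        · exact s.2.2.2 i j
    · apply Subtype.ext
      exact Fin.tail_cons (α := fun _ => V) w.1 s.1
    · apply Subtype.ext
      apply Subtype.ext
      have h2 : Fin.tail t.1.1 = s.1 := congrArg Subtype.val t.2
      change (Fin.cons (t.1.1 0) s.1 : Fin (k + 1) → V) = t.1.1
      rw [← h2]
      exact Fin.cons_self_tail t.1.1
  rw [Nat.card_congr (Equiv.sigmaFiberEquiv f).symm, Nat.card_sigma, Finset.sum_congr rfl fun s _ => h1 s,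
    Finset.sum_const, Finset.card_univ, smul_eq_mul, Nat.card_eq_fintype_card (α := Tup F k)]

end general

section sp

variable (K : Type u) [Field K] [Finite K]

theorem card_tup_sp {m k : ℕ} (hk : k ≤ m) : Nat.card (Tup (CForm.spF K m) k) =
    ∏ i ∈ Finset.range k, (Nat.card K ^ (2 * m - i) - Nat.card K ^ i) := by
  classical
  induction k with
  | zero =>
    rw [Finset.prod_range_zero, Nat.card_eq_one_iff_unique]
    refine ⟨⟨fun a b => Subtype.ext (Subsingleton.elim _ _)⟩, ⟨⟨Fin.elim0, linearIndependent_empty_type, fun i => i.elim0, fun i => i.elim0⟩⟩⟩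
  | succ k ih =>
    rw [Finset.prod_range_succ, ← ih (by omega)]
    refine card_tup_succ_of _ k _ fun s => ?_
    have hTS := (CForm.spF K m).TS_span s.2.2.2 s.2.2.1
    have hfr := finrank_perp_span (CForm.spF K m) s.2.1
    have hV : finrank K (Fin m ⊕ Fin m → K) = 2 * m := by
      rw [finrank_fintype_fun_eq_card, Fintype.card_sum, Fintype.card_fin]
      ring
    rw [hV] at hfr
    have hfs : finrank K (Submodule.span K (Set.range s.1)) = k := by
      rw [finrank_span_eq_card s.2.1, Fintype.card_fin]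
    obtain ⟨W, hW⟩ : ∃ W, W = Submodule.span K (Set.range s.1) := ⟨_, rfl⟩
    rw [← hW] at hTS hfr hfs ⊢
    have h1 : Nat.card {w : Fin m ⊕ Fin m → K // (CForm.spF K m).Q w = 0 ∧ w ∈ (CForm.spF K m).perp W ∧ w ∉ W} =
        Nat.card (((CForm.spF K m).perp W : Set (Fin m ⊕ Fin m → K)) \ (W : Set (Fin m ⊕ Fin m → K)) : Set (Fin m ⊕ Fin m → K)) := by
      refine Nat.card_congr (Equiv.subtypeEquivRight fun w => ?_)
      constructor
      · rintro ⟨-, h2, h3⟩
        exact ⟨h2, h3⟩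
      · rintro ⟨h2, h3⟩
        exact ⟨rfl, h2, h3⟩
    rw [h1, Nat.card_coe_set_eq, Set.ncard_sdiff (fun w hw => hTS.le_perp hw)]
    have h2 : ∀ U : Submodule K (Fin m ⊕ Fin m → K), (U : Set (Fin m ⊕ Fin m → K)).ncard = Nat.card K ^ finrank K U := by
      intro U
      rw [← Nat.card_coe_set_eq]
      exact Module.natCard_eq_pow_finrank (K := K) (V := U)
    rw [h2, h2, hfs]
    congr 2
    omega

theorem card_Om_sp {m k : ℕ} (hk : k ≤ m) : Nat.card ((CForm.spF K m).Om k) *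
    ∏ i ∈ Finset.range k, (Nat.card K ^ (i + 1) - 1) = ∏ i ∈ Finset.range k, (Nat.card K ^ (2 * (m - i)) - 1) := by
  have hq : 1 < Nat.card K := Finite.one_lt_card
  have h1 := card_tup (CForm.spF K m) k
  rw [card_tup_sp K hk] at h1
  have h2 : ∏ i ∈ Finset.range k, (Nat.card K ^ k - Nat.card K ^ i) =
      (∏ i ∈ Finset.range k, Nat.card K ^ i) * ∏ i ∈ Finset.range k, (Nat.card K ^ (i + 1) - 1) := by
    rw [← Finset.prod_range_reflect (fun i => Nat.card K ^ (i + 1) - 1), ← Finset.prod_mul_distrib]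
    refine Finset.prod_congr rfl fun i hi => ?_
    rw [Finset.mem_range] at hi
    rw [Nat.mul_sub, mul_one, ← pow_add]
    congr 2
    omega
  have h3 : ∏ i ∈ Finset.range k, (Nat.card K ^ (2 * m - i) - Nat.card K ^ i) =
      (∏ i ∈ Finset.range k, Nat.card K ^ i) * ∏ i ∈ Finset.range k, (Nat.card K ^ (2 * (m - i)) - 1) := by
    rw [← Finset.prod_mul_distrib]
    refine Finset.prod_congr rfl fun i hi => ?_
    rw [Finset.mem_range] at hi
    rw [Nat.mul_sub, mul_one, ← pow_add]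
    congr 2
    omega
  rw [h2, h3] at h1
  have h4 : 0 < ∏ i ∈ Finset.range k, Nat.card K ^ i := Finset.prod_pos fun i _ => by positivity
  apply Nat.eq_of_mul_eq_mul_left h4
  rw [h1]
  ring

/-- **the degree** -/
theorem dg_sp {m k : ℕ} (hk : k ≤ m) (hk0 : 0 < k) : (Nat.card K ^ k - 1) * dg (CForm.spF K m) k =
    ∏ i ∈ Finset.range k, (Nat.card K ^ (2 * (m - i)) - 1) := by
  rw [← card_Om_sp K hk]
  unfold dg
  obtain ⟨j, rfl⟩ : ∃ j, k = j + 1 := ⟨k - 1, by omega⟩
  rw [Finset.prod_range_succ, Finset.prod_Ico_eq_prod_range, Nat.add_sub_cancel]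
  have h1 : ∏ i ∈ Finset.range j, (Nat.card K ^ (1 + i) - 1) = ∏ i ∈ Finset.range j, (Nat.card K ^ (i + 1) - 1) :=
    Finset.prod_congr rfl fun i _ => by rw [add_comm]
  rw [h1]
  ring

theorem dg_pos {m k : ℕ} (hk : k ≤ m) (hk0 : 0 < k) : 0 < dg (CForm.spF K m) k := by
  have hq : 1 < Nat.card K := Finite.one_lt_card
  rcases Nat.eq_zero_or_pos (dg (CForm.spF K m) k) with h | h
  · exfalso
    have h1 := dg_sp K hk hk0
    rw [h, mul_zero] at h1
    have h2 : 0 < ∏ i ∈ Finset.range k, (Nat.card K ^ (2 * (m - i)) - 1) := by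
      refine Finset.prod_pos fun i hi => ?_
      rw [Finset.mem_range] at hi
      have : 1 < Nat.card K ^ (2 * (m - i)) := Nat.one_lt_pow (by omega) hq
      omega
    omega
  · exact h

theorem arith_lt {a b q : ℕ} (hq : 2 ≤ q) (ha : q ≤ a) (hb : q ^ 2 ≤ b) (h : 3 ≤ q ∨ 4 ≤ a ∨ 16 ≤ b) :
    q * a - 1 < (b - 1) * (a - 1) := by
  obtain ⟨a, rfl⟩ : ∃ x, a = x + 1 := ⟨a - 1, by omega⟩
  have hb4 : 4 ≤ b := by nlinarith
  obtain ⟨b, rfl⟩ : ∃ x, b = x + 1 := ⟨b - 1, by omega⟩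
  rw [Nat.add_sub_cancel, Nat.add_sub_cancel]
  have h1 : q * (a + 1) < b * a + 1 := by
    rcases h with h | h | h
    · obtain ⟨t, rfl⟩ : ∃ t, q = t + 3 := ⟨q - 3, by omega⟩
      obtain ⟨s, rfl⟩ : ∃ s, a = s + (t + 2) := ⟨a - (t + 2), by omega⟩
      obtain ⟨r, rfl⟩ : ∃ r, b = r + (t ^ 2 + 6 * t + 8) := ⟨b - (t ^ 2 + 6 * t + 8), by linarith only [Nat.sub_add_cancel (show t ^ 2 + 6 * t + 8 ≤ b by nlinarith)]⟩
      ring_nf
      linarith only [Nat.zero_le (r * s), Nat.zero_le (r * t), Nat.zero_le (s * t), Nat.zero_le (t ^ 2 * s), Nat.zero_le (t ^ 3), _root_.sq_nonneg (↑t : ℤ), _root_.Nat.cast_nonneg (α := ℤ) (t), _root_.Nat.cast_nonneg (α := ℤ) (s), _root_.Nat.cast_nonneg (α := ℤ) (r)]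
    · obtain ⟨t, rfl⟩ : ∃ t, q = t + 2 := ⟨q - 2, by omega⟩
      obtain ⟨s, rfl⟩ : ∃ s, a = s + 3 := ⟨a - 3, by omega⟩
      obtain ⟨r, rfl⟩ : ∃ r, b = r + (t ^ 2 + 4 * t + 3) := ⟨b - (t ^ 2 + 4 * t + 3), by linarith only [Nat.sub_add_cancel (show t ^ 2 + 4 * t + 3 ≤ b by nlinarith)]⟩
      ring_nf
      linarith only [Nat.zero_le (r * s), Nat.zero_le (s * t), Nat.zero_le (t ^ 2 * s), _root_.sq_nonneg (↑t : ℤ), _root_.Nat.cast_nonneg (α := ℤ) (t), _root_.Nat.cast_nonneg (α := ℤ) (s), _root_.Nat.cast_nonneg (α := ℤ) (r)]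
    · rcases Nat.lt_or_ge q 3 with h3 | h3
      · obtain rfl : q = 2 := by omega
        nlinarith only [h, ha]
      · obtain ⟨t, rfl⟩ : ∃ t, q = t + 3 := ⟨q - 3, by omega⟩
        obtain ⟨s, rfl⟩ : ∃ s, a = s + (t + 2) := ⟨a - (t + 2), by omega⟩
        obtain ⟨r, rfl⟩ : ∃ r, b = r + (t ^ 2 + 6 * t + 8) := ⟨b - (t ^ 2 + 6 * t + 8), by linarith only [Nat.sub_add_cancel (show t ^ 2 + 6 * t + 8 ≤ b by nlinarith)]⟩
        ring_nf
        linarith only [Nat.zero_le (r * s), Nat.zero_le (r * t), Nat.zero_le (s * t), Nat.zero_le (t ^ 2 * s), Nat.zero_le (t ^ 3), _root_.sq_nonneg (↑t : ℤ), _root_.sq_nonneg (↑t + 3 : ℤ), _root_.Nat.cast_nonneg (α := ℤ) (s)]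
  have h2 : 0 < b * a := Nat.mul_pos (by omega) (by omega)
  omega

/-- **strict monotonicity** -/
theorem dg_lt_succ {m k : ℕ} (hk0 : 0 < k) (hk : k + 1 ≤ m) (h : m = 2 → 3 ≤ Nat.card K) :
    dg (CForm.spF K m) k < dg (CForm.spF K m) (k + 1) := by
  have hq : 1 < Nat.card K := Finite.one_lt_card
  obtain ⟨q, hq'⟩ : ∃ q, q = Nat.card K := ⟨_, rfl⟩
  have h1 := dg_sp K (m := m) (k := k) (by omega) hk0
  have h2 := dg_sp K (m := m) (k := k + 1) hk (by omega)
  have h3 := dg_pos K (m := m) (k := k) (by omega) hk0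
  rw [Finset.prod_range_succ, ← h1] at h2
  rw [← hq'] at hq h1 h2 h
  have ha : q ≤ q ^ k := by
    calc q = q ^ 1 := (pow_one q).symm
      _ ≤ q ^ k := Nat.pow_le_pow_right (by omega) hk0
  have hb : q ^ 2 ≤ q ^ (2 * (m - k)) := Nat.pow_le_pow_right (by omega) (by omega)
  have h4 : q * q ^ k - 1 < (q ^ (2 * (m - k)) - 1) * (q ^ k - 1) := by
    refine arith_lt hq ha hb ?_
    rcases Nat.lt_or_ge q 3 with h5 | h5
    · have h6 : q = 2 := by omega
      right
      rcases Nat.lt_or_ge k 2 with h7 | h7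
      · right
        have h8 : m ≠ 2 := fun h8 => by have := h h8; omega
        have : 4 ≤ 2 * (m - k) := by omega
        calc 16 = 2 ^ 4 := by norm_num
          _ ≤ 2 ^ (2 * (m - k)) := Nat.pow_le_pow_right (by norm_num) this
          _ = q ^ (2 * (m - k)) := by rw [h6]
      · left
        calc 4 = 2 ^ 2 := by norm_num
          _ ≤ 2 ^ k := Nat.pow_le_pow_right (by norm_num) h7
          _ = q ^ k := by rw [h6]
    · left; exact h5
  have h5 : 0 < q ^ (k + 1) - 1 := by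
    have : 1 < q ^ (k + 1) := Nat.one_lt_pow (by omega) hq
    omega
  have h6 : q ^ (k + 1) - 1 = q * q ^ k - 1 := by rw [pow_succ, mul_comm]
  by_contra hcon
  push Not at hcon
  have h7 : (q ^ (k + 1) - 1) * dg (CForm.spF K m) (k + 1) ≤ (q ^ (k + 1) - 1) * dg (CForm.spF K m) k :=
    Nat.mul_le_mul_left _ hcon
  rw [h2, h6] at h7
  have h8 : (q * q ^ k - 1) * dg (CForm.spF K m) k < ((q ^ (2 * (m - k)) - 1) * (q ^ k - 1)) * dg (CForm.spF K m) k :=
    Nat.mul_lt_mul_of_pos_right h4 h3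
  have h9 : (q ^ k - 1) * dg (CForm.spF K m) k * (q ^ (2 * (m - k)) - 1) =
      ((q ^ (2 * (m - k)) - 1) * (q ^ k - 1)) * dg (CForm.spF K m) k := by ring
  omega

theorem dg_lt {m k l : ℕ} (hk0 : 0 < k) (hkl : k < l) (hl : l ≤ m) (h : m = 2 → 3 ≤ Nat.card K) :
    dg (CForm.spF K m) k < dg (CForm.spF K m) l := by
  induction l, hkl using Nat.le_induction with
  | base => exact dg_lt_succ K hk0 hl h
  | succ l hkl ih => exact (ih (by omega)).trans (dg_lt_succ K (by omega) hl h)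

end sp

end Cfsg.Agent.H362.Dl
end

-- part: H362/Dl/SpSmall
section
prune_inst 0x2500000000400000000000000000000400000800000002800000001000000000000000008110000000200000000000000000000000000400082080004200000800000000000000000000000000000000000000000000000000
set_option linter.all false
open scoped Cfsg.Agent.FastGrp

-- part: H362/Dl/SpMany
section
/-!
# Characters of `PSp_{2m}(q)` of degree divisible by `r` (helper362)

`exists_char_dg` : characters of degree `dg`; `exists_rank3` : a character of even degree divisible by `p` (`q` odd);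
`many_odd`, `many_two` : `Many r (PSp m K) L`.
-/

set_option autoImplicit false
set_option linter.unusedSectionVars false

open Cfsg

namespace Cfsg.Agent.H362.Dl

open Cfsg.Agent.H477.HC Module Cfsg.Agent.H53.HC Cfsg.Agent.H246.Dl

universe u v

variable (K : Type u) [Field K] [Finite K]

theorem exists_char_dg {m k : ℕ} (hk0 : 0 < k) (hk : k ≤ m) (h2 : Nat.card K = 2 → 3 ≤ k) (h3 : Nat.card K = 3 → 3 ≤ k)
    (h5 : Nat.card K = 5 → 2 ≤ k) :
    ∃ χ : PSp m K → ℂ, IsIrrCharacter _ χ ∧ χ 1 = (dg (CForm.spF K m) k : ℂ) := by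
  obtain ⟨c, hc⟩ := exists_cus_sq K rfl k hk0 h2 h3 h5
  obtain ⟨n, rfl⟩ := Nat.exists_eq_add_of_le hk
  exact psp_char (n := n) hc (one_pow 2) (neg_one_sq)

theorem dvd_dg {m k e r : ℕ} (he0 : 0 < e) (hek : e < k) (he : r ∣ Nat.card K ^ e - 1) :
    r ∣ dg (CForm.spF K m) k := by
  unfold dg
  exact Dvd.dvd.mul_left (he.trans (Finset.dvd_prod_of_mem (fun i => Nat.card K ^ i - 1) (Finset.mem_Ico.2 ⟨he0, hek⟩))) _

theorem dg_injOn {m : ℕ} (h : m = 2 → 3 ≤ Nat.card K) : Set.InjOn (fun k => dg (CForm.spF K m) k) (Finset.Ico 1 (m + 1)) := by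
  intro a ha b hb hab
  rw [Finset.coe_Ico, Set.mem_Ico] at ha hb
  rcases Nat.lt_trichotomy a b with h1 | h1 | h1
  · exact absurd hab (dg_lt K (by omega) h1 (by omega) h).ne
  · exact h1
  · exact absurd hab (dg_lt K (by omega) h1 (by omega) h).ne'

/-- the general case -/
theorem many_gen {m L e r a : ℕ} (h : m = 2 → 3 ≤ Nat.card K) (he0 : 0 < e) (he : r ∣ Nat.card K ^ e - 1)
    (hea : e < a) (h2 : Nat.card K = 2 → 3 ≤ a) (h3 : Nat.card K = 3 → 3 ≤ a) (h5 : Nat.card K = 5 → 2 ≤ a)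
    (hL : L + a ≤ m + 1) : Many r (PSp m K) L := by
  classical
  have hcard : ((Finset.Ico a (m + 1)).image (fun k => dg (CForm.spF K m) k)).card = m + 1 - a := by
    rw [Finset.card_image_of_injOn, Nat.card_Ico]
    refine (dg_injOn K h).mono ?_
    intro x hx
    rw [Finset.coe_Ico, Set.mem_Ico] at hx ⊢
    omega
  refine (Many.of_finset (D := (Finset.Ico a (m + 1)).image (fun k => dg (CForm.spF K m) k)) ?_).mono (by rw [hcard]; omega)
  intro d hd
  obtain ⟨k, hk, rfl⟩ := Finset.mem_image.1 hd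
  rw [Finset.mem_Ico] at hk
  exact ⟨dvd_dg K he0 (by omega) he, exists_char_dg K (by omega) (by omega) (fun h => by have := h2 h; omega)
    (fun h => by have := h3 h; omega) (fun h => by have := h5 h; omega)⟩

/-- `r` odd -/
theorem many_odd {m L e r : ℕ} (he0 : 0 < e) (he : r ∣ Nat.card K ^ e - 1) (hL3 : 3 ≤ L)
    (hL : 3 ^ (L - 1) * e ≤ 2 * m) : Many r (PSp m K) L := by
  obtain ⟨l, rfl⟩ : ∃ l, L = l + 3 := ⟨L - 3, by omega⟩
  have h1 : 9 + 2 * l ≤ 3 ^ (l + 3 - 1) := by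
    have h2 : l + 3 - 1 = l + 2 := by omega
    rw [h2]
    clear h2 hL hL3
    induction l with
    | zero => norm_num
    | succ l ih =>
      rw [show l + 1 + 2 = l + 2 + 1 from by ring, pow_succ]
      omega
  have h2 : (9 + 2 * l) * e ≤ 2 * m := (Nat.mul_le_mul_right e h1).trans hL
  have h3 : l + 3 + (max 2 e + 1) ≤ m + 1 := by
    have h4 : 9 * e + 2 * l ≤ (9 + 2 * l) * e := by nlinarith only [he0]
    rcases le_total 2 e with h | h
    · rw [max_eq_right h]; omega
    · rw [max_eq_left h]; omega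
  exact many_gen K (by omega) he0 he (a := max 2 e + 1) (by omega) (by omega) (by omega) (by omega) h3

section two

variable {p : ℕ} [Fact p.Prime] [CharP K p]

theorem not_dvd_dg {m k : ℕ} (hk : k ≤ m) (hk0 : 0 < k) : ¬ p ∣ dg (CForm.spF K m) k := by
  intro h
  have hp : p.Prime := Fact.out
  obtain ⟨s, hs⟩ := card_pow K p
  have hq : 1 < Nat.card K := Finite.one_lt_card
  have h1 := dg_sp K hk hk0
  have h2 : p ∣ ∏ i ∈ Finset.range k, (Nat.card K ^ (2 * (m - i)) - 1) := h1 ▸ Dvd.dvd.mul_left h _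
  obtain ⟨i, hi, hi'⟩ := (Prime.dvd_finsetProd_iff hp.prime _).1 h2
  rw [Finset.mem_range] at hi
  have hs0 : s ≠ 0 := by
    rintro rfl
    rw [pow_zero] at hs
    omega
  have h3 : p ∣ Nat.card K ^ (2 * (m - i)) := by
    rw [hs, ← pow_mul]
    exact dvd_pow_self p (Nat.mul_ne_zero hs0 (by omega))
  have h4 : 1 ≤ Nat.card K ^ (2 * (m - i)) := Nat.one_le_pow _ _ (by omega)
  have h5 := (Nat.dvd_sub h3 hi')
  rw [Nat.sub_sub_self h4] at h5
  exact hp.one_lt.ne' (Nat.dvd_one.1 h5)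

/-- **the rank 3 character of even degree** -/
theorem exists_rank3 (hp2 : p ≠ 2) {m : ℕ} (hm : 2 ≤ m) : ∃ (χ : PSp m K → ℂ) (f : ℕ), IsIrrCharacter _ χ ∧ χ 1 = f ∧
    2 ∣ f ∧ p ∣ f ∧ (m = 4 → Nat.card K = 3 → f = 1680) ∧ (m = 3 → Nat.card K = 3 → f = 168) := by
  have hp : p.Prime := Fact.out
  obtain ⟨s, hs⟩ := card_pow K p
  have hq : 1 < Nat.card K := Finite.one_lt_card
  have hs0 : s ≠ 0 := by
    rintro rfl
    rw [pow_zero] at hs
    omega
  have hpq : p ∣ Nat.card K := by rw [hs]; exact dvd_pow_self p hs0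
  have hpodd : Odd p := hp.odd_of_ne_two hp2
  have hodd : Odd (Nat.card K) := by rw [hs]; exact hpodd.pow
  obtain ⟨c, hc⟩ := hodd
  obtain ⟨q, hq'⟩ : ∃ q, q = Nat.card K := ⟨_, rfl⟩
  rw [← hq'] at hpq hc hq
  have hcq : 1 ≤ c := by omega
  -- `p` is prime to `2 (q - 1)`
  have hcop : ∀ f : ℕ, ∀ y : ℤ, 2 * ((q : ℤ) - 1) * f = q * y → p ∣ f := by
    intro f y h
    have h1 : (p : ℤ) ∣ (2 * ((q : ℤ) - 1)) * f := by
      rw [h]
      exact Dvd.dvd.mul_right (Int.natCast_dvd_natCast.2 hpq) _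
    have hpi : Prime (p : ℤ) := Nat.prime_iff_prime_int.1 hp
    rcases hpi.dvd_or_dvd h1 with h2 | h2
    · exfalso
      rcases hpi.dvd_or_dvd h2 with h3 | h3
      · have h4 : p ∣ 2 := by exact_mod_cast h3
        exact hp2 ((Nat.prime_dvd_prime_iff_eq hp Nat.prime_two).1 h4)
      · have h4 : (p : ℤ) ∣ (q : ℤ) := Int.natCast_dvd_natCast.2 hpq
        have h5 : (p : ℤ) ∣ 1 := by
          have := dvd_sub h4 h3
          rwa [sub_sub_cancel] at this
        exact hpi.not_dvd_one h5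
    · exact Int.natCast_dvd_natCast.1 h2
  -- `4 c (c + 1) ∣ q^(2 i) - 1`
  have hA : ∀ i : ℕ, ∃ A : ℤ, (q : ℤ) ^ (2 * i) - 1 = ((q : ℤ) ^ 2 - 1) * A := by
    intro i
    rw [pow_mul]
    obtain ⟨A, hA⟩ := sub_one_dvd_pow_sub_one ((q : ℤ) ^ 2) i
    exact ⟨A, hA⟩
  have hB : ∀ i : ℕ, ∃ B : ℤ, (q : ℤ) ^ i + 1 = 2 * B := by
    intro i
    have h1 : Odd ((q : ℤ) ^ i) := by
      apply Odd.pow
      exact ⟨c, by rw [hc]; push_cast; ring⟩
    obtain ⟨B, hB⟩ := h1
    exact ⟨B + 1, by rw [hB]; ring⟩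
  have hqz : (q : ℤ) = 2 * c + 1 := by rw [hc]; push_cast; ring
  have hq1 : (2 * ((q : ℤ) - 1)) ≠ 0 := by
    have : (1 : ℤ) < q := by exact_mod_cast hq
    intro h
    omega
  let _ := Fintype.ofFinite K
  obtain ⟨χ₁, χ₂, f, g, hχ₁, hχ₂, hf, hg, hf', hg'⟩ := Cfsg.Agent.H677.SpRank.exists_chars (F := K) hm
  rw [← hq'] at hf' hg' ⊢
  rcases Nat.even_or_odd m with hme | hmo
  · -- `m` even
    obtain ⟨i, hi⟩ := hme
    obtain ⟨A, hA⟩ := hA i
    obtain ⟨B, hB⟩ := hB (m - 1)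
    refine ⟨χ₁, f, hχ₁, hf, ?_, hcop f (((q : ℤ) ^ m - 1) * ((q : ℤ) ^ (m - 1) + 1)) (by rw [hf']; ring), ?_, ?_⟩
    · have h1 : (2 * ((q : ℤ) - 1)) * f = (2 * ((q : ℤ) - 1)) * (2 * ((c + 1) * q * A * B)) := by
        rw [hf', hB, show m = 2 * i from by omega, hA, hqz]
        ring
      have h2 := mul_left_cancel₀ hq1 h1
      have h3 : (2 : ℤ) ∣ (f : ℤ) := ⟨_, h2⟩
      exact_mod_cast h3
    · rintro rfl h3
      rw [h3] at hf'
      norm_num at hf'
      omega
    · rintro rfl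
      omega
  · -- `m` odd
    obtain ⟨i, hi⟩ := hmo
    obtain ⟨A, hA⟩ := hA i
    obtain ⟨B, hB⟩ := hB m
    refine ⟨χ₂, g, hχ₂, hg, ?_, hcop g (((q : ℤ) ^ m + 1) * ((q : ℤ) ^ (m - 1) - 1)) (by rw [hg']; ring), ?_, ?_⟩
    · have h1 : (2 * ((q : ℤ) - 1)) * g = (2 * ((q : ℤ) - 1)) * (2 * ((c + 1) * q * A * B)) := by
        rw [hg', hB, show m - 1 = 2 * i from by omega, hA, hqz]
        ring
      have h2 := mul_left_cancel₀ hq1 h1
      have h3 : (2 : ℤ) ∣ (g : ℤ) := ⟨_, h2⟩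
      exact_mod_cast h3
    · rintro rfl
      omega
    · rintro rfl h3
      rw [h3] at hg'
      norm_num at hg'
      omega

theorem two_dvd_dg (hp2 : p ≠ 2) {m k : ℕ} (hk0 : 0 < k) (hkm : k ≤ m) : 2 ∣ dg (CForm.spF K m) k := by
  have hp : p.Prime := Fact.out
  obtain ⟨s, hs⟩ := card_pow K p
  have hq : 1 < Nat.card K := Finite.one_lt_card
  have hodd : Odd (Nat.card K) := by rw [hs]; exact (hp.odd_of_ne_two hp2).pow
  rcases Nat.lt_or_ge 1 k with h | h
  · refine dvd_dg K (e := 1) one_pos h ?_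
    rw [pow_one]
    obtain ⟨c, hc⟩ := hodd
    exact ⟨c, by omega⟩
  · obtain rfl : k = 1 := by omega
    have h1 := dg_sp K hkm hk0
    rw [pow_one, Finset.prod_range_one, Nat.sub_zero] at h1
    obtain ⟨c, hc⟩ := hodd
    have h2 : Nat.card K ^ 2 - 1 ∣ Nat.card K ^ (2 * m) - 1 := by
      rw [pow_mul]
      simpa only [_root_.one_pow] using Nat.sub_dvd_pow_sub_pow (Nat.card K ^ 2) 1 m
    obtain ⟨A, hA⟩ := h2
    have h3 : Nat.card K ^ 2 - 1 = (Nat.card K - 1) * (2 * (c + 1)) := by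
      rw [hc, Nat.add_sub_cancel]
      have : (2 * c + 1) ^ 2 = 2 * c * (2 * (c + 1)) + 1 := by ring
      rw [this, Nat.add_sub_cancel]
    rw [hA, h3] at h1
    have h4 : dg (CForm.spF K m) 1 = 2 * (c + 1) * A := by
      apply Nat.eq_of_mul_eq_mul_left (show 0 < Nat.card K - 1 by omega)
      rw [h1]
      ring
    exact ⟨(c + 1) * A, by rw [h4]; ring⟩

/-- the general case, `r = 2` -/
theorem many_two_gen (hp2 : p ≠ 2) {m L a : ℕ} (hm : 2 ≤ m) (ha0 : 0 < a)
    (h3 : Nat.card K = 3 → 3 ≤ a) (h5 : Nat.card K = 5 → 2 ≤ a) (hL : L + a ≤ m + 2) (ham : a ≤ m + 1) :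
    Many 2 (PSp m K) L := by
  classical
  have hp : p.Prime := Fact.out
  obtain ⟨s, hs⟩ := card_pow K p
  have hq : 1 < Nat.card K := Finite.one_lt_card
  have hodd : Odd (Nat.card K) := by rw [hs]; exact (hp.odd_of_ne_two hp2).pow
  have hq3 : 3 ≤ Nat.card K := by
    obtain ⟨c, hc⟩ := hodd
    omega
  obtain ⟨χ, f, hχ, hf, hf2, hfp, -⟩ := exists_rank3 K hp2 hm
  have hfn : f ∉ (Finset.Ico a (m + 1)).image (fun k => dg (CForm.spF K m) k) := by
    intro h
    obtain ⟨k, hk, rfl⟩ := Finset.mem_image.1 h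
    rw [Finset.mem_Ico] at hk
    exact not_dvd_dg K (by omega) (by omega) hfp
  have hcard : (insert f ((Finset.Ico a (m + 1)).image (fun k => dg (CForm.spF K m) k))).card = m + 1 - a + 1 := by
    rw [Finset.card_insert_of_notMem hfn, Finset.card_image_of_injOn, Nat.card_Ico]
    refine (dg_injOn K (fun _ => hq3)).mono ?_
    intro x hx
    rw [Finset.coe_Ico, Set.mem_Ico] at hx ⊢
    omega
  refine (Many.of_finset (D := insert f ((Finset.Ico a (m + 1)).image (fun k => dg (CForm.spF K m) k))) ?_).mono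
    (by rw [hcard]; omega)
  intro d hd
  rcases Finset.mem_insert.1 hd with rfl | hd
  · exact ⟨hf2, χ, hχ, hf⟩
  · obtain ⟨k, hk, rfl⟩ := Finset.mem_image.1 hd
    rw [Finset.mem_Ico] at hk
    exact ⟨two_dvd_dg K hp2 (by omega) (by omega), exists_char_dg K (by omega) (by omega) (fun h => by omega)
      (fun h => by have := h3 h; omega) (fun h => by have := h5 h; omega)⟩

theorem log_le {m c : ℕ} (h : 2 * m < 2 ^ c) (hc : 0 < c) : Nat.log 2 (2 * m) + 1 ≤ c := by
  rcases Nat.eq_zero_or_pos m with rfl | hm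
  · simp
    omega
  · have := (Nat.log_lt_iff_lt_pow (by norm_num) (by omega : 2 * m ≠ 0)).2 h
    omega

/-- **`r = 2`** -/
theorem many_two (hp2 : p ≠ 2) {m : ℕ} (hm : 2 ≤ m) (h3 : Nat.card K = 3 → 5 ≤ m) (h5 : Nat.card K = 5 → 3 ≤ m) :
    Many 2 (PSp m K) (Nat.log 2 (2 * m) + 1) := by
  by_cases hq3 : Nat.card K = 3
  · have h6 := h3 hq3
    refine many_two_gen K hp2 hm (a := 3) (by norm_num) (fun _ => le_rfl) (fun h => by omega) ?_ (by omega)
    have : Nat.log 2 (2 * m) + 1 ≤ m - 1 := by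
      refine log_le ?_ (by omega)
      obtain ⟨j, rfl⟩ : ∃ j, m = j + 5 := ⟨m - 5, by omega⟩
      rw [show j + 5 - 1 = j + 4 from by omega]
      clear h3 h5 h6 hm
      induction j with
      | zero => norm_num
      | succ j ih => rw [show j + 1 + 4 = j + 4 + 1 from by ring, pow_succ]; omega
    omega
  · by_cases hq5 : Nat.card K = 5
    · have h6 := h5 hq5
      refine many_two_gen K hp2 hm (a := 2) (by norm_num) (fun h => by omega) (fun _ => le_rfl) ?_ (by omega)
      have : Nat.log 2 (2 * m) + 1 ≤ m := by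
        refine log_le ?_ (by omega)
        obtain ⟨j, rfl⟩ : ∃ j, m = j + 3 := ⟨m - 3, by omega⟩
        clear h3 h5 h6 hm
        induction j with
        | zero => norm_num
        | succ j ih => rw [show j + 1 + 3 = j + 3 + 1 from by ring, pow_succ]; omega
      omega
    · refine many_two_gen K hp2 hm (a := 1) (by norm_num) (fun h => absurd h hq3) (fun h => absurd h hq5) ?_ (by omega)
      have : Nat.log 2 (2 * m) + 1 ≤ m + 1 := by
        refine log_le ?_ (by omega)
        obtain ⟨j, rfl⟩ : ∃ j, m = j + 2 := ⟨m - 2, by omega⟩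
        clear h3 h5 hm
        induction j with
        | zero => norm_num
        | succ j ih =>
          have : 2 ^ (j + 1 + 2 + 1) = 2 ^ (j + 2 + 1) * 2 := by ring
          omega
      omega

end two

end Cfsg.Agent.H362.Dl
end

-- part: H362/Dl/SpSmall
section
/-!
# `PSp_6(3)` and `PSp_8(3)` (helper362)

`psp_char_hc` : for `n < k`, `c` cuspidal on `GL_k(K)`, `ψ₀` irreducible on `Sp_{2n}(K)` with opposite values at `-1`, an
irreducible character of `PSp_{2(k+n)}(K)` of degree `dg * ψ₀(1)`; `many_six_three`, `many_eight_three`.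
-/

set_option autoImplicit false
set_option linter.unusedSectionVars false

open Cfsg

namespace Cfsg.Agent.H362.Dl

open Cfsg.Agent.H477.HC Module Cfsg.Agent.H53.HC Cfsg.Agent.H246.Dl Cfsg.Agent.Characters

universe u v

/-- irreducible characters separate the elements -/
theorem exists_irr_sep {Q : Type u} [Group Q] [Finite Q] {g : Q} (hg : g ≠ 1) :
    ∃ μ : Q → ℂ, IsIrrCharacter Q μ ∧ μ g ≠ μ 1 := by
  classical
  have := Fintype.ofFinite Q
  have := Core.finite_irr (G := Q)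
  have := Fintype.ofFinite (IrrCharacter Q)
  by_contra hcon
  push Not at hcon
  have hf : IsClassFunction Q (fun x : Q => if x = 1 then (1 : ℂ) else 0) := by
    intro x y
    simp only [_root_.conj_eq_one_iff]
  have h1 := Core.classFunction_eq_sum hf
  have h3 : (fun x : Q => if x = 1 then (1 : ℂ) else 0) g = (fun x : Q => if x = 1 then (1 : ℂ) else 0) 1 := by
    rw [h1, Finset.sum_apply, Finset.sum_apply]
    refine Finset.sum_congr rfl fun χ _ => ?_
    rw [Pi.smul_apply, Pi.smul_apply, hcon χ χ.2]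
  change (if g = 1 then (1 : ℂ) else 0) = if (1 : Q) = 1 then (1 : ℂ) else 0 at h3
  rw [if_pos rfl, if_neg hg] at h3
  exact zero_ne_one h3

/-- an element `z` with `z ^ 2 = 1` in the centre acts as `±1` -/
theorem central_pm {Q : Type u} [Group Q] [Finite Q] {μ : Q → ℂ} (hμ : IsIrrCharacter Q μ) {z : Q}
    (hz : z ∈ Subgroup.center Q) (hz2 : z * z = 1) : μ z = μ 1 ∨ μ z = -μ 1 := by
  obtain ⟨l, hl⟩ := central_mul hμ hz
  have h1 := hl 1
  have h2 := hl z
  rw [hz2] at h2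
  rw [one_mul] at h1
  have h3 : μ 1 ≠ 0 := Core.isIrr_apply_one_ne_zero hμ
  have h4 : (l * l - 1) * μ 1 = 0 := by
    rw [sub_mul, one_mul, mul_assoc, ← h1, ← h2, sub_self]
  have h5 : (l - 1) * (l + 1) = 0 := by
    rcases mul_eq_zero.1 h4 with h | h
    · rw [← h]; ring
    · exact absurd h h3
  rcases mul_eq_zero.1 h5 with h | h
  · left
    rw [h1, sub_eq_zero.1 h, one_mul]
  · right
    rw [h1, eq_neg_of_add_eq_zero_left h, neg_one_mul]

section

variable {K : Type u} [Field K] [Finite K] {V : Type v} [AddCommGroup V] [Module K V] [Finite V] (F : CForm K V)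

theorem finrank_perp [FiniteDimensional K V] (W : Submodule K V) :
    finrank K (F.perp W) + finrank K W = finrank K V := by
  classical
  let b := Module.finBasis K W
  have hli : LinearIndependent K (fun i => (b i : V)) := b.linearIndependent.map' W.subtype (Submodule.ker_subtype _)
  have hsp : Submodule.span K (Set.range fun i => (b i : V)) = W := by
    have h1 : (Set.range fun i => (b i : V)) = W.subtype '' Set.range b := by
      rw [← Set.range_comp]
      rfl
    rw [h1, ← Submodule.map_span, b.span_eq, Submodule.map_top, Submodule.range_subtype]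
  have := finrank_perp_span F hli
  rw [hsp] at this
  exact this

/-- totally singular subspaces which are orthogonal and disjoint -/
theorem no_orth [FiniteDimensional K V] {k : ℕ} (hk : finrank K V < 4 * k) {W W' : Submodule K V} (hW : W ∈ F.Om k)
    (hW' : W' ∈ F.Om k) (h : W ≤ F.perp W') (h0 : W ⊓ W' = ⊥) : False := by
  have h1 : W ⊔ W' ≤ F.perp (W ⊔ W') := by
    intro x hx y hy
    obtain ⟨a, ha, b, hb, rfl⟩ := Submodule.mem_sup.1 hx
    obtain ⟨c, hc, d, hd, rfl⟩ := Submodule.mem_sup.1 hy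
    rw [F.B_add_left, F.B_add_right, F.B_add_right, hW.1.2 a ha c hc, h ha d hd, F.B_eq_zero (h hc b hb),
      hW'.1.2 b hb d hd]
    ring
  have h2 := finrank_perp F (W ⊔ W')
  have h3 := Submodule.finrank_mono h1
  have h4 := Submodule.finrank_sup_add_finrank_inf_eq W W'
  rw [h0, finrank_bot, hW.2, hW'.2] at h4
  omega

end

section sp

variable (K : Type u) [Field K] [Finite K]

theorem exists_cmp {k n m : ℕ} (hm : k + n = m) : ∃ (W₀ : Submodule K (Fin m ⊕ Fin m → K))
    (j : (Fin n ⊕ Fin n → K) →ₗ[K] (Fin m ⊕ Fin m → K)),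
    W₀ ∈ (CForm.spF K m).Om k ∧ H749.Two.Cmp (CForm.spF K m) (CForm.spF K n) j W₀ := by
  classical
  obtain ⟨e, f, j, h⟩ := CForm.frm_sp (K := K) hm
  refine ⟨Submodule.span K (Set.range e), j, (CForm.spF K m).frame_mem_Om h.hee h.hef h.hQe, ⟨rfl, ?_, h.hjB, h.hjQ, ?_, ?_⟩⟩
  · exact ((CForm.spF K m).frame_mem_Om h.hee h.hef h.hQe).1
  · intro x w hw
    obtain ⟨g, rfl⟩ := (Submodule.mem_span_range_iff_exists_fun K).1 hw
    rw [CForm.B_sum_right]
    exact Finset.sum_eq_zero fun i _ => by rw [h.hje, mul_zero]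
  · intro v hv
    have hw : ∑ i, (CForm.spF K m).B v (f i) • e i ∈ Submodule.span K (Set.range e) :=
      (Submodule.mem_span_range_iff_exists_fun K).2 ⟨_, rfl⟩
    obtain ⟨x, hx⟩ := (CForm.spF K m).frame_decomp (CForm.spF K n) j h.hee h.hff h.hef h.hjB h.hje h.hjf h.hdim
      (v - ∑ i, (CForm.spF K m).B v (f i) • e i)
      (fun i => by
        rw [CForm.B_sub_left, hv _ (Submodule.subset_span ⟨i, rfl⟩), CForm.B_sum_left,
          Finset.sum_eq_zero (fun l _ => by rw [h.hee, mul_zero]), sub_zero])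
      (fun i => by
        rw [CForm.B_sub_left, CForm.B_sum_left, Finset.sum_eq_single i]
        · rw [h.hef, if_pos rfl, mul_one, sub_self]
        · intro l _ hl
          rw [h.hef, if_neg hl, mul_zero]
        · intro h; exact absurd (Finset.mem_univ _) h)
    exact ⟨_, hw, x, by rw [← hx]; abel⟩

/-- **`c ⊗ ψ₀`** -/
theorem psp_char_hc {k n : ℕ} (hnk : n < k) {Z : Kˣ → Prop} {c : GL (Fin k) K → ℂ}
    (hc : Cus K k (RingHom.id K) Z c) {ψ₀ : (CForm.spF K n).iso → ℂ} (hψ : IsIrrCharacter _ ψ₀)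
    (hz : ∀ z' : (CForm.spF K n).iso, (∀ x, (z' : (Fin n ⊕ Fin n → K) ≃ₗ[K] (Fin n ⊕ Fin n → K)) x = ((-1 : Kˣ) : K) • x) →
      c (Matrix.GeneralLinearGroup.scalar (Fin k) (-1)) * ψ₀ z' = c 1 * ψ₀ 1) :
    ∃ χ : PSp (k + n) K → ℂ, IsIrrCharacter _ χ ∧ χ 1 = (dg (CForm.spF K (k + n)) k : ℂ) * ψ₀ 1 := by
  classical
  obtain ⟨W₀, j, hW₀, hcmp⟩ := exists_cmp K (k := k) (n := n) rfl
  obtain ⟨χ, hχ, hχ1, hχz⟩ := H749.Two.exists_hc hcmp (c := c) hc hW₀ hψ (fun W' hW' h1 h2 =>
    no_orth (CForm.spF K (k + n)) (k := k) (by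
      rw [finrank_fintype_fun_eq_card, Fintype.card_sum, Fintype.card_fin]
      omega) hW₀ hW' h1 h2)
  have hfin : Finite (Matrix.symplecticGroup (Fin (k + n)) K) := inferInstance
  have hχ' : IsIrrCharacter _ (χ ∘ (isoSp (k + n) K).toMonoidHom) :=
    Core.isIrr_comp (isoSp (k + n) K).toMonoidHom (isoSp (k + n) K).surjective hχ
  obtain ⟨η, hη, hη'⟩ := exists_quot (Subgroup.center (Matrix.symplecticGroup (Fin (k + n)) K)) hχ' (fun z hzz => by
    change χ (isoSp (k + n) K z) = χ (isoSp (k + n) K 1)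
    rw [map_one]
    rcases Cfsg.Agent.ClassicalGeometry.SympInvolutions.center_eq hzz with h | h
    · have : isoSp (k + n) K z = 1 := by
        apply Subtype.ext
        ext v : 1
        rw [isoSp_apply, h, Matrix.one_mulVec]
        rfl
      rw [this]
    · refine hχz _ (-1) (fun v => ?_) hz
      rw [isoSp_apply, h, Matrix.neg_mulVec, Matrix.one_mulVec, Units.val_neg, Units.val_one, neg_one_smul])
  refine ⟨η, hη, ?_⟩
  rw [← hχ1]
  have := hη' 1
  rw [QuotientGroup.mk_one] at this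
  rw [this]
  change χ (isoSp (k + n) K 1) = χ 1
  rw [map_one]

/-- `-1` in the isometry group -/
noncomputable def negOne (n : ℕ) : (CForm.spF K n).iso := isoSp n K ⟨-1, by
  rw [SymplecticGroup.mem_iff]
  simp⟩

theorem negOne_apply (n : ℕ) (x : Fin n ⊕ Fin n → K) :
    ((negOne K n : (CForm.spF K n).iso) : (Fin n ⊕ Fin n → K) ≃ₗ[K] (Fin n ⊕ Fin n → K)) x = -x := by
  unfold negOne
  rw [isoSp_apply]
  change Matrix.mulVec (-1) x = -x
  rw [Matrix.neg_mulVec, Matrix.one_mulVec]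

theorem eq_negOne {n : ℕ} {z : (CForm.spF K n).iso}
    (hz : ∀ x, (z : (Fin n ⊕ Fin n → K) ≃ₗ[K] (Fin n ⊕ Fin n → K)) x = ((-1 : Kˣ) : K) • x) : z = negOne K n := by
  apply Subtype.ext
  ext x : 1
  rw [hz, negOne_apply, Units.val_neg, Units.val_one, neg_one_smul]

theorem negOne_center (n : ℕ) : negOne K n ∈ Subgroup.center (CForm.spF K n).iso := by
  rw [Subgroup.mem_center_iff]
  intro g
  apply Subtype.ext
  ext x : 1
  change (g : (Fin n ⊕ Fin n → K) ≃ₗ[K] (Fin n ⊕ Fin n → K)) (((negOne K n : (CForm.spF K n).iso) : (Fin n ⊕ Fin n → K) ≃ₗ[K] (Fin n ⊕ Fin n → K)) x) = ((negOne K n : (CForm.spF K n).iso) : (Fin n ⊕ Fin n → K) ≃ₗ[K] (Fin n ⊕ Fin n → K)) ((g : (Fin n ⊕ Fin n → K) ≃ₗ[K] (Fin n ⊕ Fin n → K)) x)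
  rw [negOne_apply, negOne_apply, map_neg]

theorem negOne_mul (n : ℕ) : negOne K n * negOne K n = 1 := by
  apply Subtype.ext
  ext x : 1
  change ((negOne K n : (CForm.spF K n).iso) : (Fin n ⊕ Fin n → K) ≃ₗ[K] (Fin n ⊕ Fin n → K)) (((negOne K n : (CForm.spF K n).iso) : (Fin n ⊕ Fin n → K) ≃ₗ[K] (Fin n ⊕ Fin n → K)) x) = x
  rw [negOne_apply, negOne_apply, neg_neg]

theorem negOne_ne {n : ℕ} (hn : 0 < n) (h2 : (2 : K) ≠ 0) : negOne K n ≠ 1 := by
  classical
  intro h
  have h1 := negOne_apply K n (Pi.single (Sum.inl ⟨0, hn⟩) 1)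
  rw [h] at h1
  change (Pi.single (Sum.inl ⟨0, hn⟩) 1 : Fin n ⊕ Fin n → K) = _ at h1
  have h3 := congrFun h1 (Sum.inl ⟨0, hn⟩)
  rw [Pi.neg_apply, Pi.single_eq_same] at h3
  apply h2
  linear_combination h3

theorem scalar_center {k : ℕ} (a : Kˣ) : Matrix.GeneralLinearGroup.scalar (Fin k) a ∈ Subgroup.center (GL (Fin k) K) := by
  rw [Subgroup.mem_center_iff]
  intro g
  apply Units.ext
  rw [Units.val_mul, Units.val_mul, Matrix.GeneralLinearGroup.coe_scalar]
  exact (Matrix.scalar_commute (a : K) (fun r => Commute.all _ _) g.1).eq.symm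

/-- the signs of the central characters can be matched -/
theorem exists_psi {n : ℕ} (hn : 0 < n) (h2 : (2 : K) ≠ 0) {k : ℕ} {c : GL (Fin k) K → ℂ} (hc : IsIrrCharacter _ c) :
    ∃ ψ₀ : (CForm.spF K n).iso → ℂ, IsIrrCharacter _ ψ₀ ∧
      c (Matrix.GeneralLinearGroup.scalar (Fin k) (-1)) * ψ₀ (negOne K n) = c 1 * ψ₀ 1 := by
  classical
  have := finite_iso (CForm.spF K n)
  have h1 := central_pm hc (z := Matrix.GeneralLinearGroup.scalar (Fin k) (-1)) (scalar_center K _) (by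
    rw [← map_mul]; simp)
  rcases h1 with h1 | h1
  · exact ⟨1, Core.isIrr_one, by rw [h1]; rfl⟩
  · obtain ⟨μ, hμ, hμ'⟩ := exists_irr_sep (negOne_ne K hn h2)
    rcases central_pm hμ (negOne_center K n) (negOne_mul K n) with h3 | h3
    · exact absurd h3 hμ'
    · exact ⟨μ, hμ, by rw [h1, h3]; ring⟩

theorem charP_three (h : Nat.card K = 3) : CharP K 3 := by
  obtain ⟨p, hp⟩ := CharP.exists K
  have hpr : p.Prime := (CharP.char_is_prime_or_zero K p).resolve_right (CharP.char_ne_zero_of_finite K p)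
  have : Fact p.Prime := ⟨hpr⟩
  obtain ⟨s, hs⟩ := card_pow K p
  rw [h] at hs
  have h1 : 3 ∣ p ^ s := ⟨1, by rw [← hs]⟩
  have h2 := (Nat.prime_dvd_prime_iff_eq Nat.prime_three hpr).1 (Nat.prime_three.dvd_of_dvd_pow h1)
  rw [h2]
  exact hp

theorem two_ne_zero_three (h : Nat.card K = 3) : (2 : K) ≠ 0 := by
  have := charP_three K h
  intro h2
  have h3 : ((2 : ℕ) : K) = 0 := by exact_mod_cast h2
  rw [CharP.cast_eq_zero_iff K 3] at h3
  omega

/-- **`PSp_6(3)`** -/
theorem many_six_three (h : Nat.card K = 3) : Many 2 (PSp 3 K) 3 := by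
  classical
  have hcp := charP_three K h
  have hf3 : Fact (Nat.Prime 3) := ⟨Nat.prime_three⟩
  obtain ⟨χ₁, f, hχ₁, hf, hf2, -, -, hf'⟩ := exists_rank3 K (p := 3) (by norm_num) (m := 3) (by norm_num)
  have hfv := hf' rfl h
  obtain ⟨χ₂, hχ₂, hg⟩ := exists_char_dg K (m := 3) (k := 3) (by norm_num) le_rfl (fun h' => by omega) (fun h' => by omega)
    (fun h' => by omega)
  have hd3 := dg_sp K (m := 3) (k := 3) le_rfl (by norm_num)
  have hd2 := dg_sp K (m := 3) (k := 2) (by norm_num) (by norm_num)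
  rw [h] at hd3 hd2
  norm_num [Finset.prod_range_succ] at hd3 hd2
  obtain ⟨c, hc⟩ := exists_cus (K := K) 2 (by norm_num) 1 one_ne_zero (fun i hi hi' => by
      obtain rfl : i = 1 := by omega
      rw [h]; norm_num) (fun i hi => by
      rw [h]
      interval_cases i <;> norm_num)
  obtain ⟨ψ₀, hψ, hψ'⟩ := exists_psi K (n := 1) one_pos (two_ne_zero_three K h) hc.irr
  obtain ⟨χ₃, hχ₃, hχ₃'⟩ := psp_char_hc K (n := 1) (k := 2) (by norm_num) hc hψ (fun z' hz' => by
    rw [eq_negOne K hz']; exact hψ')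
  have := finite_iso (CForm.spF K 1)
  obtain ⟨t, ht0, ht⟩ := Core.isIrr_apply_one hψ
  have hd3' : dg (CForm.spF K 3) 3 = 17920 := by omega
  have hd2' : dg (CForm.spF K 3) 2 = 7280 := by omega
  have hd2'' : dg (CForm.spF K (2 + 1)) 2 = 7280 := hd2'
  rw [hd2'', ht] at hχ₃'
  have hcard : ({168, 17920, 7280 * t} : Finset ℕ).card = 3 := by
    rw [Finset.card_eq_three]
    exact ⟨_, _, _, by norm_num, by omega, by omega, rfl⟩
  have key : Many 2 (PSp 3 K) ({168, 17920, 7280 * t} : Finset ℕ).card := by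
    refine Many.of_finset ?_
    intro d hd
    simp only [Finset.mem_insert, Finset.mem_singleton] at hd
    rcases hd with rfl | rfl | rfl
    · exact ⟨by norm_num, χ₁, hχ₁, by rw [hf, hfv]⟩
    · exact ⟨by norm_num, χ₂, hχ₂, by rw [hg, hd3']⟩
    · exact ⟨⟨3640 * t, by ring⟩, χ₃, hχ₃, by rw [hχ₃']; push_cast; ring⟩
  rwa [hcard] at key

open scoped commutatorElement in
/-- a character of `SL_2(K)` of degree `> 1`, trivial on `-1` -/
theorem exists_psi_nonlin : ∃ ψ₀ : (CForm.spF K 1).iso → ℂ, IsIrrCharacter _ ψ₀ ∧ ψ₀ (negOne K 1) = ψ₀ 1 ∧ ψ₀ 1 ≠ 1 := by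
  classical
  have := finite_iso (CForm.spF K 1)
  obtain ⟨A, hA⟩ : ∃ A : Matrix (Fin 1 ⊕ Fin 1) (Fin 1 ⊕ Fin 1) K, A = Matrix.fromBlocks 1 1 0 1 := ⟨_, rfl⟩
  have hAm : A ∈ Matrix.symplecticGroup (Fin 1) K := by
    rw [S0244.result, hA, Matrix.det_fromBlocks_zero₂₁]
    simp
  obtain ⟨U, hU⟩ : ∃ U, U = isoSp 1 K ⟨A, hAm⟩ := ⟨_, rfl⟩
  obtain ⟨W, hW⟩ : ∃ W, W = isoSp 1 K ⟨Matrix.J (Fin 1) K, SymplecticGroup.J_mem _ _⟩ := ⟨_, rfl⟩
  have hUv : ∀ v, (U : (Fin 1 ⊕ Fin 1 → K) ≃ₗ[K] (Fin 1 ⊕ Fin 1 → K)) v = A.mulVec v := by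
    intro v; rw [hU]; exact isoSp_apply _ v
  have hWv : ∀ v, (W : (Fin 1 ⊕ Fin 1 → K) ≃ₗ[K] (Fin 1 ⊕ Fin 1 → K)) v = (Matrix.J (Fin 1) K).mulVec v := by
    intro v; rw [hW]; exact isoSp_apply _ v
  let N : Subgroup (CForm.spF K 1).iso := Subgroup.zpowers (negOne K 1)
  have hNn : N.Normal := ⟨fun n hn g => by
    obtain ⟨i, rfl⟩ := Subgroup.mem_zpowers_iff.1 hn
    have h1 : negOne K 1 ^ i ∈ Subgroup.center (CForm.spF K 1).iso := Subgroup.zpow_mem _ (negOne_center K 1) i
    rw [Subgroup.mem_center_iff.1 h1 g, mul_inv_cancel_right]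
    exact hn⟩
  have hmem : ∀ n ∈ N, n = 1 ∨ n = negOne K 1 := by
    intro n hn
    obtain ⟨i, rfl⟩ := Subgroup.mem_zpowers_iff.1 hn
    have h2 : negOne K 1 ^ (2 : ℤ) = 1 := by
      rw [zpow_two, negOne_mul]
    rcases Int.even_or_odd' i with ⟨l, hl | hl⟩
    · left
      rw [hl, zpow_mul, h2, one_zpow]
    · right
      rw [hl, zpow_add, zpow_mul, h2, one_zpow, one_mul, zpow_one]
  have hv1 : ((U * W : (CForm.spF K 1).iso) : (Fin 1 ⊕ Fin 1 → K) ≃ₗ[K] (Fin 1 ⊕ Fin 1 → K))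
      (Pi.single (Sum.inl 0) 1) (Sum.inl 0) = 1 := by
    change (U : (Fin 1 ⊕ Fin 1 → K) ≃ₗ[K] (Fin 1 ⊕ Fin 1 → K)) ((W : (Fin 1 ⊕ Fin 1 → K) ≃ₗ[K] (Fin 1 ⊕ Fin 1 → K)) _) _ = _
    rw [hUv, hWv, hA, Matrix.J]
    simp only [Matrix.mulVec, dotProduct, Matrix.fromBlocks, _root_.Matrix.mulVec, _root_.dotProduct, _root_.Matrix.fromBlocks, _root_.Fin.isValue, _root_.Matrix.of_apply, _root_.Sum.elim_inl, _root_.Fintype.sum_sum_type, _root_.Finset.univ_unique, _root_.Fin.default_eq_zero, _root_.Finset.sum_singleton, _root_.Pi.single_eq_same, _root_.mul_one, _root_.ne_eq, _root_.reduceCtorEq, _root_.not_false_eq_true, _root_.Pi.single_eq_of_ne, _root_.MulZeroClass.mul_zero, _root_.Finset.sum_const_zero, _root_.add_zero, _root_.Matrix.zero_apply, _root_.Sum.elim_inr, _root_.Matrix.one_apply_eq, _root_.zero_add]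
  have hv2 : ((W * U : (CForm.spF K 1).iso) : (Fin 1 ⊕ Fin 1 → K) ≃ₗ[K] (Fin 1 ⊕ Fin 1 → K))
      (Pi.single (Sum.inl 0) 1) (Sum.inl 0) = 0 := by
    change (W : (Fin 1 ⊕ Fin 1 → K) ≃ₗ[K] (Fin 1 ⊕ Fin 1 → K)) ((U : (Fin 1 ⊕ Fin 1 → K) ≃ₗ[K] (Fin 1 ⊕ Fin 1 → K)) _) _ = _
    rw [hUv, hWv, hA, Matrix.J]
    simp only [Matrix.mulVec, dotProduct, Matrix.fromBlocks, _root_.Matrix.mulVec, _root_.dotProduct, _root_.Matrix.fromBlocks, _root_.Fin.isValue, _root_.Matrix.of_apply, _root_.Sum.elim_inl, _root_.Fintype.sum_sum_type, _root_.Finset.univ_unique, _root_.Fin.default_eq_zero, _root_.Finset.sum_singleton, _root_.Pi.single_eq_same, _root_.mul_one, _root_.ne_eq, _root_.reduceCtorEq, _root_.not_false_eq_true, _root_.Pi.single_eq_of_ne, _root_.MulZeroClass.mul_zero, _root_.Finset.sum_const_zero, _root_.add_zero, _root_.Matrix.zero_apply, _root_.MulZeroClass.zero_mul, _root_.Sum.elim_inr, _root_.Matrix.neg_apply]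
  have hg : ⁅U, W⁆ ∉ N := by
    intro hN
    have h1 : U * W = ⁅U, W⁆ * (W * U) := by
      rw [commutatorElement_def]
      group
    rcases hmem _ hN with h2 | h2
    · rw [h2, one_mul] at h1
      rw [h1, hv2] at hv1
      exact zero_ne_one hv1
    · rw [h2] at h1
      rw [h1] at hv1
      change ((negOne K 1 : (CForm.spF K 1).iso) : (Fin 1 ⊕ Fin 1 → K) ≃ₗ[K] (Fin 1 ⊕ Fin 1 → K))
        (((W * U : (CForm.spF K 1).iso) : (Fin 1 ⊕ Fin 1 → K) ≃ₗ[K] (Fin 1 ⊕ Fin 1 → K)) _) _ = _ at hv1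
      rw [negOne_apply, Pi.neg_apply, hv2, neg_zero] at hv1
      exact zero_ne_one hv1
  have hg1 : (QuotientGroup.mk' N) ⁅U, W⁆ ≠ 1 := by
    intro h
    exact hg ((QuotientGroup.eq_one_iff _).1 h)
  obtain ⟨μ, hμ, hμ'⟩ := exists_irr_sep hg1
  have hψ := Core.isIrr_comp (QuotientGroup.mk' N) (QuotientGroup.mk'_surjective N) hμ
  refine ⟨μ ∘ QuotientGroup.mk' N, hψ, ?_, fun h1 => ?_⟩
  · rw [Function.comp_apply, Function.comp_apply, map_one]
    congr 1
    exact (QuotientGroup.eq_one_iff _).2 (Subgroup.mem_zpowers _)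
  · obtain ⟨f, hf⟩ := Linear.exists_hom_of_isIrrCharacter hψ h1
    apply hμ'
    have h2 := congrFun hf ⁅U, W⁆
    have h3 := congrFun hf 1
    rw [Function.comp_apply] at h2 h3
    rw [h2]
    rw [map_one] at h3
    rw [h3, map_one, map_commutatorElement]
    have : ⁅f U, f W⁆ = 1 := by
      rw [commutatorElement_eq_one_iff_mul_comm, mul_comm]
    rw [this]

/-- **`PSp_8(3)`** -/
theorem many_eight_three (h : Nat.card K = 3) : Many 2 (PSp 4 K) 4 := by
  classical
  have hcp := charP_three K h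
  have hf3 : Fact (Nat.Prime 3) := ⟨Nat.prime_three⟩
  obtain ⟨χ₁, f, hχ₁, hf, hf2, -, hf', -⟩ := exists_rank3 K (p := 3) (by norm_num) (m := 4) (by norm_num)
  have hfv := hf' rfl h
  obtain ⟨χ₂, hχ₂, hg⟩ := exists_char_dg K (m := 4) (k := 3) (by norm_num) (by norm_num) (fun h' => by omega) (fun h' => by omega)
    (fun h' => by omega)
  obtain ⟨χ₄, hχ₄, hg4⟩ := exists_char_dg K (m := 4) (k := 4) (by norm_num) le_rfl (fun h' => by omega) (fun h' => by omega)
    (fun h' => by omega)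
  have hd4 := dg_sp K (m := 4) (k := 4) le_rfl (by norm_num)
  have hd3 := dg_sp K (m := 4) (k := 3) (by norm_num) (by norm_num)
  rw [h] at hd3 hd4
  norm_num [Finset.prod_range_succ] at hd3 hd4
  obtain ⟨c, hc⟩ := exists_cus_sq K rfl 3 (by norm_num) (fun _ => le_rfl) (fun _ => le_rfl) (fun _ => by norm_num)
  obtain ⟨ψ₀, hψ, hψ', hψ1⟩ := exists_psi_nonlin K
  obtain ⟨χ₃, hχ₃, hχ₃'⟩ := psp_char_hc K (n := 1) (k := 3) (by norm_num) hc hψ (fun z' hz' => by
    rw [eq_negOne K hz', hψ', hc.scal (-1) (neg_one_sq)])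
  have := finite_iso (CForm.spF K 1)
  obtain ⟨t, ht0, ht⟩ := Core.isIrr_apply_one hψ
  have ht1 : t ≠ 1 := by
    rintro rfl
    exact hψ1 (by rw [ht, Nat.cast_one])
  have hd3' : dg (CForm.spF K 4) 3 = 14694400 := by omega
  have hd4' : dg (CForm.spF K 4) 4 = 38205440 := by omega
  have hd3'' : dg (CForm.spF K (3 + 1)) 3 = 14694400 := hd3'
  rw [hd3'', ht] at hχ₃'
  have hcard : ({1680, 14694400, 38205440, 14694400 * t} : Finset ℕ).card = 4 := by
    rw [Finset.card_insert_of_notMem, Finset.card_insert_of_notMem, Finset.card_insert_of_notMem, Finset.card_singleton]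
    · simp only [Finset.mem_singleton]
      omega
    · simp only [Finset.mem_insert, Finset.mem_singleton]
      omega
    · simp only [Finset.mem_insert, Finset.mem_singleton]
      omega
  have key : Many 2 (PSp 4 K) ({1680, 14694400, 38205440, 14694400 * t} : Finset ℕ).card := by
    refine Many.of_finset ?_
    intro d hd
    simp only [Finset.mem_insert, Finset.mem_singleton] at hd
    rcases hd with rfl | rfl | rfl | rfl
    · exact ⟨by norm_num, χ₁, hχ₁, by rw [hf, hfv]⟩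
    · exact ⟨by norm_num, χ₂, hχ₂, by rw [hg, hd3']⟩
    · exact ⟨by norm_num, χ₄, hχ₄, by rw [hg4, hd4']⟩
    · exact ⟨⟨7347200 * t, by ring⟩, χ₃, hχ₃, by rw [hχ₃']; push_cast; ring⟩
  rwa [hcard] at key

end sp

end Cfsg.Agent.H362.Dl
end
end
end
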